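import Groth.Prelude.Def_AlgGrp
import Groth.Prelude.Def_Red2
import Mathlib.AlgebraicGeometry.Morphisms.ClosedImmersion
import Mathlib.CategoryTheory.Monoidal.Cartesian.Over
import Mathlib.GroupTheory.Solvable

/-! Point-wise lemmas on kernels and semidirect products of group schemes. -/

set_option autoImplicit false
universe u
open CategoryTheory MonoidalCategory CartesianMonoidalCategory MonObj AlgebraicGeometry Limits

namespace Groth.Agent.GrpPtsLib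

variable {S : Scheme.{u}} {N G Q : Over S}

theorem mono_of_isClosedImmersion (i : N ⟶ G) [IsClosedImmersion i.left] : Mono i :=
  Over.mono_of_mono_left i

variable [GrpObj N] [GrpObj G] [GrpObj Q]

theorem exists_lift_of_isKernel {i : N ⟶ G} {q : G ⟶ Q} (h : AlgGrp.IsKernel i q) {T : Over S} (g : T ⟶ G)
    (hg : g ≫ q = 1) : ∃ n : T ⟶ N, n ≫ i = g :=
  ⟨h.lift g (toUnit T) (by rw [hg, Hom.one_def]), h.lift_fst _ _ _⟩

theorem comp_eq_one_of_isKernel {i : N ⟶ G} {q : G ⟶ Q} (h : AlgGrp.IsKernel i q) {T : Over S} (n : T ⟶ N) :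
    n ≫ i ≫ q = 1 := by
  rw [h.w, ← Category.assoc, comp_toUnit, Hom.one_def]

theorem solvable_extension (i : N ⟶ G) [IsMonHom i] (q : G ⟶ Q) [IsMonHom q] (h : AlgGrp.IsKernel i q)
    (hN : Red.IsSolvableGrp N) (hQ : Red.IsSolvableGrp Q) : Red.IsSolvableGrp G := by
  obtain ⟨n, hn⟩ := hN
  obtain ⟨m, hm⟩ := hQ
  refine ⟨m + n, fun X => ?_⟩
  let qX := IsMonHom.monoidHom q X
  let iX := IsMonHom.monoidHom i X
  have h1 : derivedSeries (X ⟶ G) m ≤ iX.range := by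
    intro g hg
    have : qX g ∈ derivedSeries (X ⟶ Q) m := map_derivedSeries_le_derivedSeries qX m (Subgroup.mem_map_of_mem _ hg)
    rw [hm X, Subgroup.mem_bot] at this
    exact exists_lift_of_isKernel h g this
  have h2 : ∀ j, derivedSeries (X ⟶ G) (m + j) ≤ (derivedSeries (X ⟶ N) j).map iX := by
    intro j
    induction j with
    | zero => exact h1.trans (MonoidHom.range_eq_map iX).le
    | succ j ih =>
      show ⁅derivedSeries (X ⟶ G) (m + j), derivedSeries (X ⟶ G) (m + j)⁆ ≤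
        Subgroup.map iX ⁅derivedSeries (X ⟶ N) j, derivedSeries (X ⟶ N) j⁆
      rw [Subgroup.map_commutator]
      exact Subgroup.commutator_mono ih ih
  rw [eq_bot_iff]
  exact (h2 n).trans (by rw [hn X, Subgroup.map_bot])

theorem pts_unique {iN : N ⟶ G} {iQ : Q ⟶ G} [IsMonHom iN] [IsMonHom iQ] [Mono iQ]
    (hinter : ∀ (T : Over S) (n : T ⟶ N) (q : T ⟶ Q), n ≫ iN = q ≫ iQ → n ≫ iN = 1)
    {T : Over S} {n n' : T ⟶ N} {q q' : T ⟶ Q} (h : (n ≫ iN) * (q ≫ iQ) = (n' ≫ iN) * (q' ≫ iQ)) :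
    n ≫ iN = n' ≫ iN ∧ q = q' := by
  let a := IsMonHom.monoidHom iN T
  let b := IsMonHom.monoidHom iQ T
  change a n * b q = a n' * b q' at h
  have h' : a (n'⁻¹ * n) = b (q' * q⁻¹) := by
    rw [map_mul, map_mul, map_inv, map_inv, inv_mul_eq_iff_eq_mul, ← _root_.mul_assoc, eq_mul_inv_iff_mul_eq, h]
  have h1 : a (n'⁻¹ * n) = 1 := hinter T _ _ h'
  rw [map_mul, map_inv, inv_mul_eq_one] at h1
  refine ⟨h1.symm, ?_⟩
  rw [h1, mul_right_inj] at h
  exact (cancel_mono iQ).mp h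

theorem semidirect_forward (iN : N ⟶ G) [IsMonHom iN] [Mono iN] (hN : AlgGrp.IsNormalHom iN)
    (iQ : Q ⟶ G) [IsMonHom iQ] [Mono iQ]
    (hdec : ∀ (T : Over S) (g : T ⟶ G), ∃ (n : T ⟶ N) (q : T ⟶ Q), g = (n ≫ iN) * (q ≫ iQ))
    (hinter : ∀ (T : Over S) (n : T ⟶ N) (q : T ⟶ Q), n ≫ iN = q ≫ iQ → n ≫ iN = 1) :
    ∃ φ : G ⟶ Q, IsMonHom φ ∧ iQ ≫ φ = 𝟙 Q ∧ AlgGrp.IsKernel iN φ := by
  obtain ⟨ν, φ, e⟩ := hdec G (𝟙 G)
  have key : ∀ (T : Over S) (g : T ⟶ G), g = ((g ≫ ν) ≫ iN) * ((g ≫ φ) ≫ iQ) := by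
    intro T g
    have := congrArg (g ≫ ·) e
    simpa only [Category.comp_id, MonObj.comp_mul, Category.assoc] using this
  have uniq : ∀ {T : Over S} (g : T ⟶ G) (n : T ⟶ N) (q : T ⟶ Q), g = (n ≫ iN) * (q ≫ iQ) → g ≫ φ = q :=
    fun {T} g n q hg => (pts_unique hinter ((key T g).symm.trans hg)).2
  have hmul : ∀ {T : Over S} (g g' : T ⟶ G), (g * g') ≫ φ = (g ≫ φ) * (g' ≫ φ) := by
    intro T g g'
    obtain ⟨n', hn'⟩ := hN T ((g ≫ φ) ≫ iQ) (g' ≫ ν)
    refine uniq _ ((g ≫ ν) * n') _ ?_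
    conv_lhs => rw [key T g, key T g']
    rw [MonObj.mul_comp, MonObj.mul_comp, ← hn']
    simp only [_root_.mul_assoc, inv_mul_cancel_left]
  have hone : ∀ {T : Over S}, (1 : T ⟶ G) ≫ φ = 1 := fun {T} => uniq _ 1 1 (by simp [MonObj.one_comp])
  have hq : iQ ≫ φ = 𝟙 Q := uniq _ 1 _ (by simp [MonObj.one_comp])
  refine ⟨φ, ⟨?_, ?_⟩, hq, ?_⟩
  · have h := hone (T := 𝟙_ (Over S))
    rw [Hom.one_def, Hom.one_def] at h
    simpa using h
  · have h := hmul (fst G G) (snd G G)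
    rw [← mul_eq_mul] at h
    rw [h, Hom.mul_def]
    congr 1
  · refine IsPullback.of_isLimit' ⟨?_⟩ ?_
    · rw [← Hom.one_def]
      exact uniq _ (𝟙 N) 1 (by simp [MonObj.one_comp])
    · refine PullbackCone.IsLimit.mk _ (fun s => s.fst ≫ ν) (fun s => ?_) (fun s => toUnit_unique _ _)
        (fun s m hm _ => ?_)
      · have h1 : s.fst ≫ φ = 1 := by
          rw [s.condition, Hom.one_def]
          exact congrArg (· ≫ η[Q]) (toUnit_unique _ _)
        have := key _ s.fst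
        rw [h1, MonObj.one_comp, _root_.mul_one] at this
        exact this.symm
      · rw [← cancel_mono iN, hm]
        have h1 : s.fst ≫ φ = 1 := by
          rw [s.condition, Hom.one_def]
          exact congrArg (· ≫ η[Q]) (toUnit_unique _ _)
        have := key _ s.fst
        rwa [h1, MonObj.one_comp, _root_.mul_one] at this

theorem semidirect_backward (iN : N ⟶ G) (iQ : Q ⟶ G) [IsMonHom iQ] {Q' : Over S} [GrpObj Q']
    (φ : G ⟶ Q') [IsMonHom φ] [IsIso (iQ ≫ φ)] (hker : AlgGrp.IsKernel iN φ) :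
    (∀ (T : Over S) (g : T ⟶ G), ∃ (n : T ⟶ N) (q : T ⟶ Q), g = (n ≫ iN) * (q ≫ iQ)) ∧
      (∀ (T : Over S) (n : T ⟶ N) (q : T ⟶ Q), n ≫ iN = q ≫ iQ → n ≫ iN = 1) := by
  refine ⟨fun T g => ?_, fun T n q h => ?_⟩
  · let q := (g ≫ φ) ≫ inv (iQ ≫ φ)
    have hq : (q ≫ iQ) ≫ φ = g ≫ φ := by simp [q]
    obtain ⟨n, hn⟩ := exists_lift_of_isKernel hker (g * (q ≫ iQ)⁻¹)
      ((MonObj.mul_comp _ _ _).trans (by
        rw [show (q ≫ iQ)⁻¹ ≫ φ = ((q ≫ iQ) ≫ φ)⁻¹ from (IsMonHom.monoidHom φ T).map_inv _, hq, mul_inv_cancel]))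
    exact ⟨n, q, by rw [hn, inv_mul_cancel_right]⟩
  · have h1 : q ≫ (iQ ≫ φ) = 1 ≫ (iQ ≫ φ) := by
      rw [MonObj.one_comp, ← Category.assoc, ← h, Category.assoc]
      exact comp_eq_one_of_isKernel hker n
    rw [h, (cancel_mono (iQ ≫ φ)).mp h1, MonObj.one_comp]

end Groth.Agent.GrpPtsLib

namespace Groth.Agent.GrpPtsLib

theorem isPullback_whiskerLeft {S : Scheme.{u}} (H : Over S) {T' T : Over S} (c : T' ⟶ T) :
    IsPullback (H ◁ c).left (pullback.snd H.hom T'.hom) (pullback.snd H.hom T.hom) c.left := by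
  refine IsPullback.of_right ?_ (congrArg CommaMorphism.left (whiskerLeft_snd H c))
    (IsPullback.of_hasPullback _ _).flip.flip
  have h1 : (H ◁ c).left ≫ pullback.fst H.hom _ = pullback.fst H.hom _ :=
    congrArg CommaMorphism.left (whiskerLeft_fst H c)
  rw [h1, Over.w c]
  exact IsPullback.of_hasPullback _ _

end Groth.Agent.GrpPtsLib
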