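import Groth.Prelude.Def_AGF
import Groth.Agent.GrpSchLib.Basic
import Groth.Agent.GrpPtsLib.Basic
import Groth.Agent.ArtGrpLib.Component
import Groth.Agent.ASp.MonoPoint
import Groth.Agent.GrpHomLib.Field

/-! Quotients by subgroups with open image are finite discrete. -/

set_option autoImplicit false
set_option backward.isDefEq.respectTransparency false
universe u
open CategoryTheory MonoidalCategory CartesianMonoidalCategory MonObj AlgebraicGeometry Limits

namespace Groth.Agent.GrpPtsLib

variable {k : Type u} [Field k] {G H X : Over (Spec (CommRingCat.of k))} [GrpObj G] [GrpObj H]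
  (i : H ⟶ G) [IsMonHom i]

theorem discreteTopology_of_isOpen_range [LocallyOfFiniteType G.hom] (a : AlgGrp.Action G X) (o : 𝟙_ _ ⟶ X)
    (hX : AGF.IsQuotient i X a o) (hop : IsOpen (Set.range i.left)) : DiscreteTopology X.left := by
  obtain ⟨hlf, hfl, hsu, hpb⟩ := hX
  haveI := hlf
  let p := a.orbitMap o
  haveI : Flat p.left := hfl
  haveI : Surjective p.left := hsu
  haveI : IsLocallyNoetherian X.left := LocallyOfFiniteType.isLocallyNoetherian X.hom
  haveI : LocallyOfFiniteType (p.left ≫ X.hom) := by rw [Over.w p]; infer_instance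
  haveI : LocallyOfFiniteType p.left := locallyOfFiniteType_of_comp p.left X.hom
  haveI : LocallyOfFinitePresentation p.left := inferInstance
  let pp : G ⊗ G ⟶ X ⊗ X := (p ▷ G) ≫ (X ◁ p)
  have sq2 := isPullback_whiskerLeft X p
  have sq1 : IsPullback (p ▷ G).left (pullback.fst G.hom G.hom) (pullback.fst X.hom G.hom) p.left := by
    refine IsPullback.of_right ?_ (congrArg CommaMorphism.left (whiskerRight_fst p G)) (IsPullback.of_hasPullback _ _).flip
    have h1 : (p ▷ G).left ≫ pullback.snd X.hom G.hom = pullback.snd G.hom G.hom :=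
      congrArg CommaMorphism.left (whiskerRight_snd p G)
    rw [h1, Over.w p]
    exact (IsPullback.of_hasPullback _ _).flip
  haveI : Flat (p ▷ G).left := MorphismProperty.of_isPullback sq1.flip hfl
  haveI : Surjective (p ▷ G).left := MorphismProperty.of_isPullback sq1.flip hsu
  haveI : LocallyOfFinitePresentation (p ▷ G).left := MorphismProperty.of_isPullback sq1.flip ‹LocallyOfFinitePresentation p.left›
  haveI : Flat (X ◁ p).left := MorphismProperty.of_isPullback sq2.flip hfl
  haveI : Surjective (X ◁ p).left := MorphismProperty.of_isPullback sq2.flip hsu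
  haveI : LocallyOfFinitePresentation (X ◁ p).left := MorphismProperty.of_isPullback sq2.flip ‹LocallyOfFinitePresentation p.left›
  haveI : Surjective pp.left := by rw [Over.comp_left]; infer_instance
  have hppopen : IsOpenMap pp.left := by
    rw [Over.comp_left, Scheme.Hom.comp_base, TopCat.coe_comp]
    exact (X ◁ p).left.isOpenMap.comp (p ▷ G).left.isOpenMap
  let pr : G ⊗ H ⟶ G ⊗ G := lift (fst G H) (fst G H * (snd G H ≫ i))
  let sh : G ⊗ G ⟶ G ⊗ G := lift (fst G G) ((fst G G)⁻¹ * snd G G)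
  let R : Set (G ⊗ G).left := (sh ≫ snd G G).left ⁻¹' Set.range i.left
  have hRopen : IsOpen R := hop.preimage (sh ≫ snd G G).left.continuous
  let Δ : X ⟶ X ⊗ X := lift (𝟙 X) (𝟙 X)
  have hpr : ∀ w, pp.left (pr.left w) ∈ Set.range Δ.left := fun w => by
    refine ⟨(fst G H ≫ p).left w, ?_⟩
    have e : (fst G H ≫ p) ≫ Δ = pr ≫ pp := by
      apply CartesianMonoidalCategory.hom_ext
      · simp [pp, pr, Δ]
      · have h := hpb.w
        rw [show G ◁ i = lift (fst G H) (snd G H ≫ i) from by
          apply CartesianMonoidalCategory.hom_ext <;> simp] at h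
        simpa [pp, pr, Δ, p, Hom.mul_def] using h
    rw [← Scheme.Hom.comp_apply, ← Scheme.Hom.comp_apply, ← Over.comp_left, ← Over.comp_left, e]
  have hR : pp.left ⁻¹' Set.range Δ.left = R := by
    apply Set.Subset.antisymm
    · rintro z ⟨x, hx⟩
      obtain ⟨T', b, c, t, ht, hbc⟩ : ∃ (T' : Over (Spec (CommRingCat.of k))) (b : T' ⟶ G ⊗ G) (c : T' ⟶ X)
          (t : T'.left), b.left t = z ∧ b ≫ pp = c ≫ Δ := by
        obtain ⟨w, hw, -⟩ := Scheme.Pullback.exists_preimage_pullback (f := pp.left) (g := Δ.left) z x hx.symm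
        refine ⟨Over.mk (pullback.fst pp.left Δ.left ≫ (G ⊗ G).hom), Over.homMk (pullback.fst pp.left Δ.left) rfl,
          Over.homMk (pullback.snd pp.left Δ.left) ?_, w, hw, Over.OverMorphism.ext pullback.condition⟩
        show pullback.snd pp.left Δ.left ≫ X.hom = pullback.fst pp.left Δ.left ≫ (G ⊗ G).hom
        rw [← Over.w pp, ← Over.w Δ, ← Category.assoc, ← Category.assoc]
        exact congrArg (· ≫ _) pullback.condition.symm
      have h1 := congrArg (· ≫ fst X X) hbc
      have h2 := congrArg (· ≫ snd X X) hbc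
      simp [pp, Δ] at h1 h2
      have h3 : (b ≫ fst G G) ≫ p = (b ≫ snd G G) ≫ p := by simp [h1, h2]
      obtain ⟨l, l1, l2⟩ : ∃ l, l ≫ fst G H = b ≫ fst G G ∧ l ≫ (G ◁ i) ≫ μ[G] = b ≫ snd G G :=
        ⟨hpb.lift _ _ h3, hpb.lift_fst _ _ _, hpb.lift_snd _ _ _⟩
      have hl : b ≫ sh ≫ snd G G = (l ≫ snd G H) ≫ i := by
        rw [show G ◁ i = lift (fst G H) (snd G H ≫ i) from by
          apply CartesianMonoidalCategory.hom_ext <;> simp, ← Category.assoc, comp_lift, ← Hom.mul_def, l1] at l2
        simp [sh, MonObj.comp_mul, GrpObj.comp_inv, ← l2]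
      refine ⟨(l ≫ snd G H).left t, ?_⟩
      rw [← Scheme.Hom.comp_apply, ← Over.comp_left, ← hl, Over.comp_left, Scheme.Hom.comp_apply, ht]
    · intro z hz
      obtain ⟨T', b, c, t, ht, hbc⟩ := GrpSchLib.exists_lift (sh ≫ snd G G) i z hz
      let w : T' ⟶ G ⊗ H := lift (b ≫ fst G G) c
      have hw : w ≫ pr = b := by
        apply CartesianMonoidalCategory.hom_ext
        · simp [w, pr]
        · simp [w, pr, MonObj.comp_mul, ← hbc, sh, GrpObj.comp_inv]
      rw [Set.mem_preimage, ← ht, ← hw, Over.comp_left, Scheme.Hom.comp_apply]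
      exact hpr _
  have hΔ : IsOpen (Set.range Δ.left) := by
    rw [← pp.left.surjective.image_preimage (Set.range Δ.left)]
    exact hppopen _ (hR ▸ hRopen)
  rw [discreteTopology_iff_isOpen_singleton]
  intro y
  let Py : Over (Spec (CommRingCat.of k)) := GrpSchLib.ptObj y
  let iy : Py ⟶ X := GrpSchLib.ptHom y
  let m : Py ⊗ X ⟶ X ⊗ X := lift (fst Py X ≫ iy) (snd Py X)
  haveI : UniversallyOpen Py.hom := inferInstance
  haveI : UniversallyOpen (snd Py X).left := inferInstanceAs (UniversallyOpen (pullback.snd Py.hom X.hom))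
  have himg := (snd Py X).left.isOpenMap _ (hΔ.preimage m.left.continuous)
  convert himg using 1
  apply Set.Subset.antisymm
  · rintro _ rfl
    obtain ⟨pt⟩ : Nonempty Py.left := inferInstance
    let s : Py ⟶ Py ⊗ X := lift (𝟙 Py) iy
    refine ⟨s.left pt, ⟨iy.left pt, ?_⟩, ?_⟩
    · have e : iy ≫ Δ = s ≫ m := by
        apply CartesianMonoidalCategory.hom_ext <;> simp [m, s, Δ]
      rw [← Scheme.Hom.comp_apply, ← Scheme.Hom.comp_apply, ← Over.comp_left, ← Over.comp_left, e]
    · rw [← Scheme.Hom.comp_apply, ← Over.comp_left, lift_snd, GrpSchLib.ptHom_apply]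
  · rintro _ ⟨w, ⟨x, hx⟩, rfl⟩
    have h1 := congrArg (fst X X).left hx
    have h2 := congrArg (snd X X).left hx
    simp only [← Scheme.Hom.comp_apply, ← Over.comp_left] at h1 h2
    simp only [Δ, m, lift_fst, lift_snd] at h1 h2
    rw [Over.comp_left, Scheme.Hom.comp_apply, GrpSchLib.ptHom_apply] at h1
    exact h2.symm.trans h1

theorem isFinite_of_isOpen_range [LocallyOfFiniteType G.hom] [QuasiCompact G.hom] (a : AlgGrp.Action G X)
    (o : 𝟙_ _ ⟶ X) (hX : AGF.IsQuotient i X a o) (hop : IsOpen (Set.range i.left)) : IsFinite X.hom := by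
  haveI := discreteTopology_of_isOpen_range i a o hX hop
  haveI := hX.1
  haveI : Surjective (a.orbitMap o).left := hX.2.2.1
  haveI : CompactSpace G.left := QuasiCompact.compactSpace_of_compactSpace G.hom
  haveI : CompactSpace X.left := (a.orbitMap o).left.surjective.compactSpace (a.orbitMap o).left.continuous
  haveI : Finite X.left := finite_of_compact_of_discrete
  haveI : QuasiCompact X.hom := quasiCompact_of_compactSpace _
  haveI : LocallyQuasiFinite X.hom := locallyQuasiFinite_iff_finite_preimage_singleton.mpr fun _ => Set.toFinite _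
  exact Groth.Agent.ASp.isFinite_of_finite X.hom

theorem factor_of_isFinite {G₀ : Over (Spec (CommRingCat.of k))} [GrpObj G₀] [ConnectedSpace G₀.left]
    [AlgebraicGeometry.IsReduced G₀.left] (j : G₀ ⟶ G) [IsMonHom j] (a : AlgGrp.Action G X)
    (o : 𝟙_ _ ⟶ X) (hX : AGF.IsQuotient i X a o) [IsFinite X.hom] : ∃ g : G₀ ⟶ H, g ≫ i = j := by
  obtain ⟨-, -, -, hpb⟩ := hX
  haveI : JacobsonSpace X.left := LocallyOfFiniteType.jacobsonSpace X.hom
  haveI : Finite X.left := by
    haveI : Subsingleton ↥(Spec (CommRingCat.of k)) := inferInstanceAs (Subsingleton (PrimeSpectrum k))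
    exact Set.finite_univ_iff.mp ((X.hom.finite_preimage_singleton (IsLocalRing.closedPoint k)).subset
      fun x _ => Subsingleton.elim (α := PrimeSpectrum k) _ _)
  haveI : DiscreteTopology X.left := JacobsonSpace.discreteTopology (Set.toFinite _)
  let p := a.orbitMap o
  haveI : IsClosedImmersion (o.left ≫ X.hom) := by rw [Over.w o]; exact inferInstanceAs (IsClosedImmersion (𝟙 _))
  haveI : IsClosedImmersion o.left := IsClosedImmersion.of_comp o.left X.hom
  have hη : (η[G₀] : 𝟙_ _ ⟶ G₀) ≫ j ≫ p = o := by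
    rw [← Category.assoc, IsMonHom.one_hom j]
    simp only [p, AlgGrp.Action.orbitMap]
    rw [← Category.assoc, comp_lift, Category.comp_id, ← Category.assoc, toUnit_unique (η[G] ≫ toUnit G) (𝟙 _),
      Category.id_comp]
    have h := congrArg (lift (𝟙 (𝟙_ (Over (Spec (CommRingCat.of k))))) o ≫ ·) a.one_act
    simp only [lift_whiskerRight_assoc, Category.id_comp] at h
    rw [h]; exact lift_snd _ _
  obtain ⟨l, hl⟩ := GrpHomLib.exists_lift_of_range o.left (j ≫ p).left (by
    rintro _ ⟨z, rfl⟩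
    have hsub := (isPreconnected_range (j ≫ p).left.continuous).subsingleton
    refine ⟨IsLocalRing.closedPoint k, hsub ⟨η[G₀].left (IsLocalRing.closedPoint k), ?_⟩ ⟨z, rfl⟩⟩
    rw [← Scheme.Hom.comp_apply, ← Over.comp_left, hη])
  have e1 : (j ≫ p) = toUnit G₀ ≫ o := by
    apply Over.OverMorphism.ext
    rw [← hl, Over.comp_left]
    congr 1
    have hw := congrArg (· ≫ X.hom) hl
    simp only [Category.assoc, Over.w o, Over.w (j ≫ p)] at hw
    exact (Category.comp_id l).symm.trans hw
  have hone : (1 : G₀ ⟶ G) ≫ p = toUnit G₀ ≫ o := by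
    have h1 : η[G] ≫ p = o := by rw [← IsMonHom.one_hom j, Category.assoc]; exact hη
    rw [Hom.one_def, Category.assoc, h1]
  obtain ⟨g, g1, g2⟩ : ∃ g, g ≫ fst G H = (1 : G₀ ⟶ G) ∧ g ≫ (G ◁ i) ≫ μ[G] = j :=
    ⟨hpb.lift _ _ (hone.trans e1.symm), hpb.lift_fst _ _ _, hpb.lift_snd _ _ _⟩
  refine ⟨g ≫ snd G H, ?_⟩
  rw [show G ◁ i = lift (fst G H) (snd G H ≫ i) from by
    apply CartesianMonoidalCategory.hom_ext <;> simp, ← Category.assoc, comp_lift, ← Hom.mul_def, g1,
    _root_.one_mul, ← Category.assoc] at g2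
  exact g2

end Groth.Agent.GrpPtsLib
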