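import Groth.Prelude.Def_AlgGrp
import Groth.Agent.MonoFibre.Connected
import Groth.Agent.ASp.PropDescend
import Mathlib.RingTheory.Jacobson.Artinian
import Mathlib.AlgebraicGeometry.Artinian
import Mathlib.AlgebraicGeometry.Geometrically.Reduced
import Mathlib.AlgebraicGeometry.Geometrically.Connected

/-! A connected smooth group acts trivially on a reduced scheme of dimension zero. -/

set_option autoImplicit false
set_option backward.isDefEq.respectTransparency false
universe u
open CategoryTheory MonoidalCategory CartesianMonoidalCategory MonObj AlgebraicGeometry Limits TopologicalSpace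

namespace Groth.Agent.GrpPtsLib

theorem exists_idem {k R : Type*} [Field k] [CommRing R] [Algebra k R] [IsReduced R] (x : R) (hx : IsIntegral k x) :
    ∃ E : R, IsIdempotentElem E ∧ E * x = x ∧ x ∣ E := by
  let A := Algebra.adjoin k ({x} : Set R)
  haveI : Module.Finite k A := Module.Finite.iff_fg.mpr hx.fg_adjoin_singleton
  haveI : IsArtinianRing A := isArtinian_of_tower k inferInstance
  haveI : IsReduced A := isReduced_of_injective A.val Subtype.val_injective
  let ξ : A := ⟨x, Algebra.subset_adjoin rfl⟩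
  let e := IsArtinianRing.equivPi A
  classical
  obtain ⟨y, hy⟩ : ∃ y : A, ξ * ξ * y = ξ := by
    letI (m : MaximalSpectrum A) : Field (A ⧸ m.asIdeal) := Ideal.Quotient.field _
    refine ⟨e.symm fun m => (e ξ m)⁻¹, e.injective ?_⟩
    funext m
    simp only [map_mul, AlgEquiv.apply_symm_apply, RingEquiv.apply_symm_apply, Pi.mul_apply]
    rcases eq_or_ne (e ξ m) 0 with h | h
    · simp [h]
    · field_simp
  have hy' : x * x * (y : R) = x := congrArg Subtype.val hy
  refine ⟨x * (y : R), ?_, ?_, dvd_mul_right _ _⟩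
  · show x * (y : R) * (x * (y : R)) = x * (y : R)
    calc x * (y : R) * (x * (y : R)) = x * x * (y : R) * (y : R) := by ring
      _ = _ := by rw [hy']
  · calc x * (y : R) * x = x * x * (y : R) := by ring
      _ = x := hy'

theorem isClopen_basicOpen_idem {X : Scheme.{u}} {E : Γ(X, ⊤)} (hE : IsIdempotentElem E) :
    IsClopen (X.basicOpen E : Set X) := by
  refine ⟨⟨?_⟩, (X.basicOpen E).2⟩
  have h : (X.basicOpen E : Set X)ᶜ = X.basicOpen (1 - E) := by
    ext x
    simp only [Set.mem_compl_iff, SetLike.mem_coe, Scheme.mem_basicOpen_top]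
    rw [map_sub, map_one]
    constructor
    · intro h1
      exact (IsLocalRing.isUnit_or_isUnit_one_sub_self _).resolve_left h1
    · intro h1 h2
      have h3 := h2.mul h1
      rw [mul_sub, _root_.mul_one, (hE.map _).eq, sub_self] at h3
      exact not_isUnit_zero h3
  rw [h]; exact (X.basicOpen (1 - E)).2

theorem eq_zero_of_section {X Y : Scheme.{u}} (f : X ⟶ Y) [GeometricallyConnected f] [AlgebraicGeometry.IsReduced X]
    (s : Y ⟶ X) (hs : s ≫ f = 𝟙 Y) {E : Γ(X, ⊤)} (hE : IsIdempotentElem E) (h : s.appTop E = 0) : E = 0 := by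
  rw [← basicOpen_eq_bot_iff]
  ext x
  simp only [Opens.coe_bot, Set.mem_empty_iff_false, iff_false, SetLike.mem_coe]
  intro hx
  have hc := (f.isConnected_preimage_singleton (f x)).isPreconnected
  have hsub := hc.subset_isClopen (isClopen_basicOpen_idem hE) ⟨x, rfl, hx⟩
  have hsx : f (s (f x)) = f x := by
    rw [← Scheme.Hom.comp_apply, hs]; rfl
  have h2 : f x ∈ s ⁻¹ᵁ X.basicOpen E := hsub hsx
  rw [Scheme.preimage_basicOpen_top, h, Scheme.basicOpen_zero] at h2
  exact h2

variable {k : Type u} [Field k] {G Z : Over (Spec (CommRingCat.of k))} [GrpObj G]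

theorem act_eq_snd_of_dim_le_zero [Smooth G.hom] [ConnectedSpace ↥G.left]
    [LocallyOfFiniteType Z.hom] [QuasiCompact Z.hom] [AlgebraicGeometry.IsReduced Z.left]
    (hdim : topologicalKrullDim ↥Z.left ≤ 0) (a : AlgGrp.Action G Z) : a.act = snd G Z := by
  haveI : IsLocallyNoetherian Z.left := LocallyOfFiniteType.isLocallyNoetherian Z.hom
  haveI : IsLocallyArtinian Z.left := .of_topologicalKrullDim_le_zero hdim
  haveI : CompactSpace Z.left := QuasiCompact.compactSpace_of_compactSpace Z.hom
  haveI : Finite Z.left := finite_of_compact_of_discrete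
  haveI : IsAffine Z.left := by
    let U : Z.left → Z.left.Opens := fun z => ⟨{z}, isOpen_discrete _⟩
    have hU : IsAffineOpen (iSup U) := IsAffineOpen.iSup_of_disjoint
      (fun z => IsAffineOpen.of_subsingleton Set.subsingleton_singleton)
      (fun z z' h => by
        rw [Function.onFun, disjoint_iff]
        ext w
        simp only [U, Opens.coe_inf, Opens.coe_mk, Set.mem_inter_iff, Set.mem_singleton_iff, Opens.coe_bot,
          Set.mem_empty_iff_false, iff_false, not_and]
        exact fun h1 h2 => h (h1.symm.trans h2))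
    rw [show iSup U = ⊤ from top_le_iff.mp fun z _ => Opens.mem_iSup.mpr ⟨z, rfl⟩] at hU
    haveI : IsAffine ((⊤ : Z.left.Opens) : Scheme) := hU
    exact IsAffine.of_isIso (Scheme.topIso Z.left).inv
  haveI : IsArtinianRing Γ(Z.left, ⊤) := IsLocallyArtinian.isArtinianRing_of_isAffine
  haveI hG : GeometricallyConnected G.hom :=
    Groth.Agent.MonoFibre.geometricallyConnected_of_section G.hom (η[G]).left (Over.w η[G])
  haveI : GeometricallyConnected (snd G Z).left := inferInstanceAs (GeometricallyConnected (pullback.snd G.hom Z.hom))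
  haveI : Smooth (snd G Z).left := inferInstanceAs (Smooth (pullback.snd G.hom Z.hom))
  haveI : AlgebraicGeometry.IsReduced (G ⊗ Z).left := Groth.Agent.ASp.isReduced_of_smooth (snd G Z).left
  let s : Z ⟶ G ⊗ Z := (λ_ Z).inv ≫ (η[G] ▷ Z)
  have hs1 : s ≫ a.act = 𝟙 Z := by simp [s, a.one_act]
  have hs2 : s ≫ snd G Z = 𝟙 Z := by simp [s]
  let c : CommRingCat.of k ⟶ Γ((G ⊗ Z).left, ⊤) := (Scheme.ΓSpecIso _).inv ≫ (G ⊗ Z).hom.appTop
  let d : CommRingCat.of k ⟶ Γ(Z.left, ⊤) := (Scheme.ΓSpecIso _).inv ≫ Z.hom.appTop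
  letI := c.hom.toAlgebra
  letI := d.hom.toAlgebra
  have hft : d.hom.FiniteType := by
    show (Z.hom.appTop.hom.comp (Scheme.ΓSpecIso (CommRingCat.of k)).inv.hom).FiniteType
    exact RingHom.FiniteType.comp ((HasRingHomProperty.iff_of_isAffine (P := @LocallyOfFiniteType)).mp ‹_›)
      (.of_surjective _ (Scheme.ΓSpecIso (CommRingCat.of k)).symm.commRingCatIsoToRingEquiv.surjective)
  haveI : Algebra.FiniteType k Γ(Z.left, ⊤) := hft
  haveI : Module.Finite k Γ(Z.left, ⊤) := (Module.finite_iff_isArtinianRing k _).mpr ‹_›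
  have hφ : ∀ f : G ⊗ Z ⟶ Z, ∀ z, IsIntegral k (f.left.appTop z) := by
    intro f z
    let F : Γ(Z.left, ⊤) →ₐ[k] Γ((G ⊗ Z).left, ⊤) := { f.left.appTop.hom with
      commutes' := fun r => by
        show f.left.appTop.hom (Z.hom.appTop.hom ((Scheme.ΓSpecIso (CommRingCat.of k)).inv.hom r)) =
          (G ⊗ Z).hom.appTop.hom ((Scheme.ΓSpecIso (CommRingCat.of k)).inv.hom r)
        rw [← Over.w f, Scheme.Hom.comp_appTop, CommRingCat.comp_apply] }
    exact (Algebra.IsIntegral.isIntegral (R := k) z).map F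
  ext : 1
  refine ext_of_isAffine ?_
  ext z
  let x : Γ((G ⊗ Z).left, ⊤) := a.act.left.appTop z - (snd G Z).left.appTop z
  obtain ⟨E, hE, hEx, ⟨w, hw⟩⟩ := exists_idem x ((hφ a.act z).sub (hφ (snd G Z) z))
  have he : ∀ f : G ⊗ Z ⟶ Z, s ≫ f = 𝟙 Z → s.left.appTop (f.left.appTop z) = z := by
    intro f hf
    rw [← CommRingCat.comp_apply, ← Scheme.Hom.comp_appTop, ← Over.comp_left, hf]
    simp
  have h0 : s.left.appTop x = 0 := by
    simp only [x, map_sub, he a.act hs1, he (snd G Z) hs2, sub_self]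
  have hE0 : E = 0 := eq_zero_of_section (snd G Z).left s.left
    (by rw [← Over.comp_left, hs2]; rfl) hE (by rw [hw, map_mul, h0, zero_mul])
  rw [hE0, zero_mul] at hEx
  exact sub_eq_zero.mp hEx.symm

end Groth.Agent.GrpPtsLib
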